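import Groth.Prelude.Def_ExtPow2
import Groth.Prelude.Def_ClSub2
import Groth.Prelude.Def_Omega2
import Groth.Agent.Frob15.SchemeLift
import Groth.Agent.Frob15.TopForm
import Groth.Agent.OmegaLib.DOmega
import Groth.Agent.AmpleLib.Power
import Groth.Agent.GenSmoothLib.OmegaFree
import Mathlib.RingTheory.Smooth.StandardSmoothCotangent
import Mathlib.AlgebraicGeometry.Morphisms.Etale

/-!
# A lift of Frobenius gives sections of negative powers of the canonical module

Local generators of `det Ω` from coordinates, the Jacobian determinants of the divided differential of the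
lift of Frobenius, and the resulting map `ω^{⊗ (p^n - 1)} ⟶ O_X`.
-/

set_option autoImplicit false
set_option linter.unusedSectionVars false
set_option backward.isDefEq.respectTransparency false
set_option maxHeartbeats 1000000

universe u

open CategoryTheory AlgebraicGeometry TopologicalSpace Opposite
open Groth.Agent.Coherent Groth.Agent.PicLib Groth.Agent.AmpleLib

namespace Groth.Agent.Lift15

/-- Bijectivity on affine opens suffices for generators. -/
theorem isGen_of_affine {X : Scheme.{u}} {L : X.Modules} {U : X.Opens} (s : Γ(L, U))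
    (h : ∀ (V : X.Opens) (_ : IsAffineOpen V) (hV : V ≤ U), Function.Bijective fun r : Γ(X, V) => r • resM L hV s) :
    IsGen L U s := by
  have hinj : ∀ (V : X.Opens) (hV : V ≤ U), Function.Injective fun r : Γ(X, V) => r • resM L hV s := by
    intro V hV a b hab
    refine AmpleLib.sec_ext (Coh.structureModule X) (U := V) a b fun y hy => ?_
    obtain ⟨V', hV', hyV', hle⟩ := Opens.isBasis_iff_nbhd.mp X.isBasis_affineOpens hy
    refine ⟨V', hle, hyV', (h V' hV' (hle.trans hV)).1 ?_⟩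
    have h2 := congrArg (resM L hle) hab
    simp only [resM_smul, resM_resM] at h2
    exact h2
  intro V hV
  refine ⟨hinj V hV, fun x => ?_⟩
  have hcov : ∀ y : V, ∃ V' : X.Opens, IsAffineOpen V' ∧ y.1 ∈ V' ∧ V' ≤ V := fun y => by
    obtain ⟨V', hV', hyV', hle⟩ := Opens.isBasis_iff_nbhd.mp X.isBasis_affineOpens y.2
    exact ⟨V', hV', hyV', hle⟩
  choose V' hV' hy hle using hcov
  choose c hc using fun y => (h (V' y) (hV' y) ((hle y).trans hV)).2 (resM L (hle y) x)
  have hc' : ∀ y, c y • resM L ((hle y).trans hV) s = resM L (hle y) x := hc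
  have hsup : V ≤ ⨆ y, V' y := fun z hz => Opens.mem_iSup.2 ⟨⟨z, hz⟩, hy ⟨z, hz⟩⟩
  obtain ⟨a, ha, -⟩ := TopCat.Sheaf.existsUnique_gluing' X.sheaf V' V (fun y => homOfLE (hle y)) hsup c (fun i j => by
    refine hinj (V' i ⊓ V' j) ((inf_le_left.trans (hle i)).trans hV) ?_
    have h1 := congrArg (resM L (inf_le_left : V' i ⊓ V' j ≤ V' i)) (hc' i)
    have h2 := congrArg (resM L (inf_le_right : V' i ⊓ V' j ≤ V' j)) (hc' j)
    simp only [resM_smul, resM_resM] at h1 h2 ⊢
    exact h1.trans h2.symm)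
  refine ⟨(show Γ(X, V) from a), TopCat.Sheaf.eq_of_locally_eq' (⟨L.presheaf, L.isSheaf⟩ : TopCat.Sheaf Ab X)
    V' V (fun y => homOfLE (hle y)) hsup _ _ fun y => ?_⟩
  show resM L (hle y) ((show Γ(X, V) from a) • resM L hV s) = resM L (hle y) x
  rw [resM_smul, resM_resM, show X.presheaf.map (homOfLE (hle y)).op (show Γ(X, V) from a) = c y from ha y]
  exact hc' y

section

variable {p : ℕ} [hp : Fact p.Prime] {k : Type u} [Field k] [CharP k p] [PerfectRing k p]
  {X : Scheme.{u}} (f : X ⟶ Spec (CommRingCat.of k))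

/-- `dt` is a basis of the differentials of the ring of `U` over `k`. -/
def HasBasis {d : ℕ} (U : X.Opens) (t : Fin d → Γ(X, U)) : Prop :=
  letI := (Frob15.strMap f U).toAlgebra
  ∃ b : Module.Basis (Fin d) Γ(X, U) (KaehlerDifferential k Γ(X, U)), ∀ i, b i = KaehlerDifferential.D k Γ(X, U) (t i)

/-- Algebraic data of restriction to a smaller affine open. -/
theorem formallyEtale_res {U V : X.Opens} (hU : IsAffineOpen U) (hV : IsAffineOpen V) (h : V ≤ U) :
    letI := (X.presheaf.map (homOfLE h).op).hom.toAlgebra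
    Algebra.FormallyEtale Γ(X, U) Γ(X, V) := by
  have he := (𝟙 X : X ⟶ X).etale_appLE hU hV (e := h)
  rw [Scheme.Hom.appLE, Scheme.Hom.id_app, Category.id_comp] at he
  letI := (X.presheaf.map (homOfLE h).op).hom.toAlgebra
  haveI : Algebra.Etale Γ(X, U) Γ(X, V) := he
  infer_instance

theorem strMap_res {U V : X.Opens} (h : V ≤ U) :
    (X.presheaf.map (homOfLE h).op).hom.comp (Frob15.strMap f U) = Frob15.strMap f V := by
  have : ((Scheme.ΓSpecIso (CommRingCat.of k)).inv ≫ f.appLE ⊤ U le_top) ≫ X.presheaf.map (homOfLE h).op =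
      (Scheme.ΓSpecIso (CommRingCat.of k)).inv ≫ f.appLE ⊤ V le_top := by
    rw [Category.assoc, Scheme.Hom.appLE_map]
  exact congrArg CommRingCat.Hom.hom this

theorem HasBasis.restrict {d : ℕ} {U V : X.Opens} (hU : IsAffineOpen U) (hV : IsAffineOpen V) (h : V ≤ U)
    {t : Fin d → Γ(X, U)} (ht : HasBasis f U t) :
    HasBasis f V fun i => X.presheaf.map (homOfLE h).op (t i) := by
  letI := (Frob15.strMap f U).toAlgebra
  letI := (Frob15.strMap f V).toAlgebra
  letI := (X.presheaf.map (homOfLE h).op).hom.toAlgebra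
  haveI := formallyEtale_res hU hV h
  haveI : IsScalarTower k Γ(X, U) Γ(X, V) := IsScalarTower.of_algebraMap_eq' (strMap_res f h).symm
  obtain ⟨b, hb⟩ := ht
  exact Frob15.exists_basis_restrict (B := Γ(X, V)) t b hb

/-- Differentials of the ring over `k` and sections of the sheaf of differentials. -/
theorem exists_kaehler_equiv [QuasiSeparated f] {V : X.Opens} (hV : IsAffineOpen V) :
    letI := (Frob15.strMap f V).toAlgebra
    ∃ E : KaehlerDifferential k Γ(X, V) ≃ₗ[Γ(X, V)] (Omega.sheaf f).val.obj (op V),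
      ∀ a, E (KaehlerDifferential.D k Γ(X, V) a) = (OmegaSh.dOmega f).app V a := by
  letI algk := (Frob15.strMap f V).toAlgebra
  obtain ⟨ψ, hψ⟩ := OmegaLib.exists_omega_sections_equiv f (W := ⊤) (U := V) le_top (isAffineOpen_top _) hV
  letI algT := (f.appLE ⊤ V le_top).hom.toAlgebra
  letI : Algebra k Γ(Spec (CommRingCat.of k), ⊤) := (Scheme.ΓSpecIso (CommRingCat.of k)).inv.hom.toAlgebra
  haveI : IsScalarTower k Γ(Spec (CommRingCat.of k), ⊤) Γ(X, V) := IsScalarTower.of_algebraMap_eq' rfl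
  let F := KaehlerDifferential.map k Γ(Spec (CommRingCat.of k), ⊤) Γ(X, V) Γ(X, V)
  have hF : ∀ a, F (KaehlerDifferential.D k Γ(X, V) a) = KaehlerDifferential.D Γ(Spec (CommRingCat.of k), ⊤) Γ(X, V) a :=
    fun a => KaehlerDifferential.map_D _ _ _ _ a
  have hbij : Function.Bijective F := by
    refine ⟨?_, KaehlerDifferential.map_surjective k Γ(Spec (CommRingCat.of k), ⊤) Γ(X, V)⟩
    rw [injective_iff_map_eq_zero]
    intro z hz
    obtain ⟨w, rfl⟩ := (KaehlerDifferential.exact_mapBaseChange_map k Γ(Spec (CommRingCat.of k), ⊤) Γ(X, V) z).1 hz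
    haveI : Algebra.FormallyUnramified k Γ(Spec (CommRingCat.of k), ⊤) :=
      Algebra.FormallyUnramified.of_surjective (Algebra.ofId _ _)
        (ConcreteCategory.bijective_of_isIso (Scheme.ΓSpecIso (CommRingCat.of k)).inv).2
    rw [Subsingleton.elim w 0, map_zero]
  exact ⟨(LinearEquiv.ofBijective F hbij).trans ψ, fun a =>
    (congrArg ψ (hF a)).trans (hψ a)⟩

variable [QuasiSeparated f] {d : ℕ} {W : X.Modules}
  (φ : ∀ U : X.affineOpens, (W.val.obj (op U.1)) ≃ₗ[Γ(X, U.1)] ↥(⋀[Γ(X, U.1)]^d ((Omega.sheaf f).val.obj (op U.1))))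
  (hφ : ∀ (U V : X.affineOpens) (h : V.1 ≤ U.1) (e : Fin d → (Omega.sheaf f).val.obj (op U.1)),
      W.val.map (homOfLE h).op ((φ U).symm (exteriorPower.ιMulti _ d e)) =
        (φ V).symm (exteriorPower.ιMulti _ d (fun j => (Omega.sheaf f).val.map (homOfLE h).op (e j))))

/-- The section of `det Ω` given by coordinates. -/
noncomputable def omegaSec {U : X.Opens} (hU : IsAffineOpen U) (t : Fin d → Γ(X, U)) : Γ(W, U) :=
  (φ ⟨U, hU⟩).symm (exteriorPower.ιMulti _ d fun i => (OmegaSh.dOmega f).app U (t i))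

include hφ in
theorem resM_omegaSec {U V : X.Opens} (hU : IsAffineOpen U) (hV : IsAffineOpen V) (h : V ≤ U)
    (t : Fin d → Γ(X, U)) :
    resM W h (omegaSec f φ hU t) = omegaSec f φ hV fun i => X.presheaf.map (homOfLE h).op (t i) := by
  refine (hφ ⟨U, hU⟩ ⟨V, hV⟩ h _).trans ?_
  refine congrArg (fun w => (φ ⟨V, hV⟩).symm (exteriorPower.ιMulti _ d w)) (funext fun i => ?_)
  exact (OmegaLib.app_map (OmegaSh.dOmega f) h (t i)).symm

include hφ in
theorem isGen_omegaSec {U : X.Opens} (hU : IsAffineOpen U) {t : Fin d → Γ(X, U)} (ht : HasBasis f U t) :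
    IsGen W U (omegaSec f φ hU t) := by
  refine isGen_of_affine _ fun V hV h => ?_
  letI := (Frob15.strMap f V).toAlgebra
  obtain ⟨b, hb⟩ := ht.restrict f hU hV h
  obtain ⟨E, hE⟩ := exists_kaehler_equiv f hV
  have hbij := Frob15.bijective_smul_ιMulti (b.map E)
  have hb' : ⇑(b.map E) = fun i => (OmegaSh.dOmega f).app V (X.presheaf.map (homOfLE h).op (t i)) :=
    funext fun i => by rw [Module.Basis.map_apply, hb, hE]
  rw [hb'] at hbij
  have hcomp := (φ ⟨V, hV⟩).symm.bijective.comp hbij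
  have key : (fun r : Γ(X, V) => r • resM W h (omegaSec f φ hU t)) = ⇑(φ ⟨V, hV⟩).symm ∘ (fun r : Γ(X, V) =>
      r • exteriorPower.ιMulti Γ(X, V) d fun i =>
        (OmegaSh.dOmega f).app V (X.presheaf.map (homOfLE h).op (t i))) := funext fun r => by
    rw [resM_omegaSec f φ hφ hU hV h]
    exact ((φ ⟨V, hV⟩).symm.map_smul r _).symm
  rw [key]
  exact hcomp

variable [FrobSch.IsCharP X p] {Xl : Scheme.{u}} {g : Xl ⟶ Spec (CommRingCat.of (FrobAlg.W2 p k))} [Flat g]
  {i : X ⟶ Xl} {Fl : Xl ⟶ Xl}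
  (hsq : IsPullback i f g (Spec.map (CommRingCat.ofHom (FrobAlg.res p k))))
  (hF : i ≫ Fl = FrobSch.frob X p ≫ i)

/-- A chart: an affine open of the lift with coordinates and the Jacobian of the lift of Frobenius. -/
structure Chart (d : ℕ) where
  /-- the open of the lift -/
  Wl : Xl.Opens
  hWl : IsAffineOpen Wl
  hU : IsAffineOpen (i ⁻¹ᵁ Wl)
  /-- coordinates -/
  t : Fin d → Γ(X, i ⁻¹ᵁ Wl)
  ht : HasBasis f (i ⁻¹ᵁ Wl) t
  /-- the Jacobian matrix -/
  M : Matrix (Fin d) (Fin d) Γ(X, i ⁻¹ᵁ Wl)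
  hM : letI := (Frob15.strMap f (i ⁻¹ᵁ Wl)).toAlgebra
    Frob15.IsJac (Frob15.isFLift hsq hF hWl) t M
  hdet : Nontrivial Γ(X, i ⁻¹ᵁ Wl) → M.det ≠ 0

theorem exists_chart [SmoothOfRelativeDimension d f] (x : X) : ∃ c : Chart f hsq hF d, x ∈ i ⁻¹ᵁ c.Wl := by
  obtain ⟨hc, -⟩ := Frob15.isClosedImmersion_and_surjective hsq
  obtain ⟨V₀, hV₀, V, hV, hxV, e, hstd⟩ :=
    SmoothOfRelativeDimension.exists_isStandardSmoothOfRelativeDimension (n := d) (f := f) x
  have hVtop : V₀ = ⊤ := Opens.ext (Set.eq_univ_of_forall fun q => by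
    rw [show q = f x from Subsingleton.elim (α := PrimeSpectrum k) q (f x)]; exact e hxV)
  subst hVtop
  letI := (Frob15.strMap f V).toAlgebra
  haveI : Algebra.IsStandardSmoothOfRelativeDimension d k Γ(X, V) :=
    RingHom.isStandardSmoothOfRelativeDimension_respectsIso.2 (f.appLE ⊤ V le_top).hom
      (Scheme.ΓSpecIso (CommRingCat.of k)).commRingCatIsoToRingEquiv.symm hstd
  obtain ⟨t, ht⟩ : ∃ t : Fin d → Γ(X, V), HasBasis f V t := by
    obtain ⟨b'⟩ := OmegaLib.exists_basis_kaehler k Γ(X, V) d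
    haveI : Nontrivial Γ(X, V) := by
      haveI : Nonempty (V.toScheme) := ⟨⟨x, hxV⟩⟩
      infer_instance
    obtain ⟨ι, σ, _, _, P, -⟩ :=
      Algebra.IsStandardSmoothOfRelativeDimension.out (n := d) (R := k) (S := Γ(X, V))
    let eq := P.basisKaehler.indexEquiv b'
    refine ⟨fun j => P.val (eq.symm j), P.basisKaehler.reindex eq, fun j => ?_⟩
    rw [Module.Basis.reindex_apply, Algebra.SubmersivePresentation.basisKaehler_apply]
  obtain ⟨O, hO, hOV⟩ := i.isClosedEmbedding.isInducing.isOpen_iff.1 V.2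
  have hix : i x ∈ (⟨O, hO⟩ : Xl.Opens) := by
    show x ∈ i ⁻¹' O
    rw [hOV]; exact hxV
  obtain ⟨Wl, hWl, hxW, hWO⟩ := Opens.isBasis_iff_nbhd.mp Xl.isBasis_affineOpens hix
  have hle : i ⁻¹ᵁ Wl ≤ V := fun z hz => by
    have : z ∈ i ⁻¹' O := hWO hz
    rw [hOV] at this; exact this
  have hU : IsAffineOpen (i ⁻¹ᵁ Wl) := hWl.preimage i
  have ht' := ht.restrict f hV hU hle
  letI := (Frob15.strMap f (i ⁻¹ᵁ Wl)).toAlgebra
  obtain ⟨b, hb⟩ := ht'
  obtain ⟨M, hM, hdet⟩ := Frob15.exists_isJac (Frob15.isFLift hsq hF hWl) _ b hb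
  exact ⟨⟨Wl, hWl, hU, _, ⟨b, hb⟩, M, hM, hdet⟩, hxW⟩

include hφ in
/-- On a small affine open the generators of two charts differ by a unit, compatibly with the determinants. -/
theorem exists_compat (c c' : Chart f hsq hF d) {Zl : Xl.Opens} (hZl : IsAffineOpen Zl) (h : Zl ≤ c.Wl)
    (h' : Zl ≤ c'.Wl) :
    ∃ a : Γ(X, i ⁻¹ᵁ Zl),
      resM W (i.preimage_mono h) (omegaSec f φ c.hU c.t) = a • resM W (i.preimage_mono h') (omegaSec f φ c'.hU c'.t) ∧
      res (i.preimage_mono h) c.M.det = a ^ (p - 1) * res (i.preimage_mono h') c'.M.det := by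
  obtain ⟨hcl, -⟩ := Frob15.isClosedImmersion_and_surjective hsq
  have hZ : IsAffineOpen (i ⁻¹ᵁ Zl) := hZl.preimage i
  letI := (Frob15.strMap f (i ⁻¹ᵁ Zl)).toAlgebra
  have hres : ∀ (b : Chart f hsq hF d) (hb : Zl ≤ b.Wl),
      Frob15.IsJac (Frob15.isFLift hsq hF hZl)
        (fun j => X.presheaf.map (homOfLE (i.preimage_mono hb)).op (b.t j))
        (b.M.map (X.presheaf.map (homOfLE (i.preimage_mono hb)).op)) := by
    intro b hb
    letI := (Frob15.strMap f (i ⁻¹ᵁ b.Wl)).toAlgebra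
    letI := (X.presheaf.map (homOfLE (i.preimage_mono hb)).op).hom.toAlgebra
    haveI := formallyEtale_res b.hU hZ (i.preimage_mono hb)
    haveI : IsScalarTower k Γ(X, i ⁻¹ᵁ b.Wl) Γ(X, i ⁻¹ᵁ Zl) :=
      IsScalarTower.of_algebraMap_eq' (strMap_res f (i.preimage_mono hb)).symm
    exact Frob15.IsJac.map (Frob15.isFLift hsq hF b.hWl) (Frob15.isFLift hsq hF hZl)
      (Xl.presheaf.map (homOfLE hb).op).hom
      (fun z => ConcreteCategory.congr_hom (i.naturality (homOfLE hb).op) z)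
      (fun z => Frob15.res_phiRing hsq hF hb z) b.hM
  obtain ⟨a, -, ha, hdet⟩ := Frob15.exists_unit_compat _ (hres c h) (hres c' h')
  refine ⟨a, ?_, ?_⟩
  · obtain ⟨E, hE⟩ := exists_kaehler_equiv f hZ
    have h2 := congrArg (exteriorPower.map d E.toLinearMap) ha
    rw [map_smul, exteriorPower.map_apply_ιMulti, exteriorPower.map_apply_ιMulti] at h2
    rw [resM_omegaSec f φ hφ c.hU hZ (i.preimage_mono h), resM_omegaSec f φ hφ c'.hU hZ (i.preimage_mono h')]
    refine Eq.trans ?_ ((φ ⟨i ⁻¹ᵁ Zl, hZ⟩).symm.map_smul a _)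
    refine congrArg (φ ⟨i ⁻¹ᵁ Zl, hZ⟩).symm ?_
    convert h2 using 3
    · exact (hE _).symm
    · funext j; exact (hE _).symm
  · have hm : ∀ (b : Chart f hsq hF d) (hb : Zl ≤ b.Wl),
        (b.M.map (X.presheaf.map (homOfLE (i.preimage_mono hb)).op)).det = res (i.preimage_mono hb) b.M.det :=
      fun b hb => ((X.presheaf.map (homOfLE (i.preimage_mono hb)).op).hom.map_det b.M).symm
    rw [hm c h, hm c' h'] at hdet
    exact hdet

include hφ hsq hF in
/-- The map `W ^ (p^n - 1) ⟶ O` given by iterates of the divided differential. -/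
theorem exists_hom [SmoothOfRelativeDimension d f] (n : ℕ) :
    ∃ s : CohB1.tensorPow W (p ^ n - 1) ⟶ Coh.structureModule X, ∀ x : X,
      ∃ (U : X.Opens) (e : Γ(W, U)), x ∈ U ∧ IsGen W U e ∧
        ∃ h : Γ(X, U), (Nontrivial Γ(X, U) → h ≠ 0) ∧ (IsIntegral X → Nonempty U → ∀ m : ℕ, h ^ m ≠ 0) ∧
          s.app U (powSec e (p ^ n - 1)) = h ^ (∑ j ∈ Finset.range n, p ^ j) • oneSec U := by
  obtain ⟨hcl, -⟩ := Frob15.isClosedImmersion_and_surjective hsq
  choose c hc using fun x => exists_chart f hsq hF (d := d) x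
  let S := ∑ j ∈ Finset.range n, p ^ j
  have hS : (p - 1) * S = p ^ n - 1 := by
    have h := geom_sum_mul_of_one_le hp.out.one_le n
    rw [mul_comm]
    exact h
  let U : X → X.Opens := fun x => i ⁻¹ᵁ (c x).Wl
  have hU : iSup U = ⊤ := top_le_iff.1 fun x _ => Opens.mem_iSup.2 ⟨x, hc x⟩
  obtain ⟨s, hs⟩ := exists_hom_of_gen (L := CohB1.tensorPow W (p ^ n - 1)) (M := Coh.structureModule X) U hU
    (fun x => powSec (omegaSec f φ (c x).hU (c x).t) (p ^ n - 1))
    (fun x => isGen_powSec (isGen_omegaSec f φ hφ (c x).hU (c x).ht) _)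
    (fun x => (c x).M.det ^ S • oneSec (U x)) (by
      intro x y T hx hy a ha
      refine AmpleLib.sec_ext _ _ _ fun z hz => ?_
      obtain ⟨O, hO, hOT⟩ := i.isClosedEmbedding.isInducing.isOpen_iff.1 T.2
      have hzO : i z ∈ (⟨O, hO⟩ : Xl.Opens) ⊓ ((c x).Wl ⊓ (c y).Wl) := by
        refine ⟨?_, hx hz, hy hz⟩
        show z ∈ i ⁻¹' O
        rw [hOT]; exact hz
      obtain ⟨Zl, hZl, hzZ, hle⟩ := Opens.isBasis_iff_nbhd.mp Xl.isBasis_affineOpens hzO
      have hZT : i ⁻¹ᵁ Zl ≤ T := fun w hw => by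
        have : w ∈ i ⁻¹' O := (hle hw).1
        rw [hOT] at this; exact this
      have h1 : Zl ≤ (c x).Wl := hle.trans (inf_le_right.trans inf_le_left)
      have h2 : Zl ≤ (c y).Wl := hle.trans (inf_le_right.trans inf_le_right)
      refine ⟨i ⁻¹ᵁ Zl, hZT, hzZ, ?_⟩
      obtain ⟨u, hu, hdet⟩ := exists_compat f φ hφ hsq hF (c x) (c y) hZl h1 h2
      have hgen := isGen_powSec ((isGen_omegaSec f φ hφ (c y).hU (c y).ht).restrict (i.preimage_mono h2))
        (p ^ n - 1)
      have ha' := congrArg (resM _ hZT) ha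
      rw [resM_smul, resM_resM, resM_resM, resM_powSec, resM_powSec, hu, powSec_smul] at ha'
      have ha'' : X.presheaf.map (homOfLE hZT).op a = u ^ (p ^ n - 1) := by
        refine (hgen (i ⁻¹ᵁ Zl) le_rfl).1 ?_
        simpa [resM_self] using ha'.symm
      simp only [resM_smul, resM_resM, resM_oneSec, smul_smul, map_mul, ha'']
      congr 1
      have e1 : ∀ {P Q R : X.Opens} (hPQ : Q ≤ P) (hQR : R ≤ Q) (r : Γ(X, P)),
          X.presheaf.map (homOfLE hQR).op (X.presheaf.map (homOfLE hPQ).op r) = res (hQR.trans hPQ) r := fun hPQ hQR r =>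
        res_res hPQ hQR r
      rw [e1, map_pow, map_pow, hdet, mul_pow, ← pow_mul, hS, map_pow, e1])
  refine ⟨s, fun x => ⟨U x, _, hc x, isGen_omegaSec f φ hφ (c x).hU (c x).ht, (c x).M.det, (c x).hdet,
    fun _ hne m => ?_, hs x⟩⟩
  exact pow_ne_zero m ((c x).hdet inferInstance)

end

end Groth.Agent.Lift15
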