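import Groth.Agent.Lift15.NegCanonical

/-!
# A torsion canonical module forces unit Jacobians
-/

set_option autoImplicit false
set_option linter.unusedSectionVars false
set_option backward.isDefEq.respectTransparency false
set_option maxHeartbeats 1000000

universe u

open CategoryTheory AlgebraicGeometry TopologicalSpace Opposite
open Groth.Agent.Coherent Groth.Agent.PicLib Groth.Agent.AmpleLib

namespace Groth.Agent.Lift15

variable {p : ℕ} [hp : Fact p.Prime] {k : Type u} [Field k] [CharP k p] [PerfectRing k p]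
  {X : Scheme.{u}} {f : X ⟶ Spec (CommRingCat.of k)} [QuasiSeparated f] {d : ℕ} {W : X.Modules}
  (φ : ∀ U : X.affineOpens, (W.val.obj (op U.1)) ≃ₗ[Γ(X, U.1)] ↥(⋀[Γ(X, U.1)]^d ((Omega.sheaf f).val.obj (op U.1))))
  (hφ : ∀ (U V : X.affineOpens) (h : V.1 ≤ U.1) (e : Fin d → (Omega.sheaf f).val.obj (op U.1)),
      W.val.map (homOfLE h).op ((φ U).symm (exteriorPower.ιMulti _ d e)) =
        (φ V).symm (exteriorPower.ιMulti _ d (fun j => (Omega.sheaf f).val.map (homOfLE h).op (e j))))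
  [FrobSch.IsCharP X p] {Xl : Scheme.{u}} {g : Xl ⟶ Spec (CommRingCat.of (FrobAlg.W2 p k))} [Flat g]
  {i : X ⟶ Xl} {Fl : Xl ⟶ Xl}
  (hsq : IsPullback i f g (Spec.map (CommRingCat.ofHom (FrobAlg.res p k))))
  (hF : i ≫ Fl = FrobSch.frob X p ≫ i)

include hφ hsq hF in
/-- If a positive power of the canonical module is trivial then all Jacobian determinants are units. -/
theorem isUnit_det [IsIntegral X] [UniversallyClosed f] [SmoothOfRelativeDimension d f] {m : ℕ} (hm : 0 < m)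
    (τ : CohB1.tensorPow W m ≅ Coh.structureModule X) (c₀ : Chart f hsq hF d) : IsUnit c₀.M.det := by
  obtain ⟨hcl, -⟩ := Frob15.isClosedImmersion_and_surjective hsq
  let U : Chart f hsq hF d → X.Opens := fun c => i ⁻¹ᵁ c.Wl
  have hU : (⊤ : X.Opens) ≤ iSup U := fun x _ => by
    obtain ⟨c, hc⟩ := exists_chart f hsq hF (d := d) x
    exact Opens.mem_iSup.2 ⟨c, hc⟩
  let b : ∀ c, Γ(X, U c) := fun c => τ.hom.app (U c) (powSec (omegaSec f φ c.hU c.t) m)
  have hb : ∀ c, IsUnit (b c) := fun c => by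
    obtain ⟨r, hr⟩ := (isGen_powSec (isGen_omegaSec f φ hφ c.hU c.ht) m (U c) le_rfl).2 (τ.inv.app (U c) (oneSec (U c)))
    replace hr : r • powSec (omegaSec f φ c.hU c.t) m = τ.inv.app (U c) (oneSec (U c)) := (congrArg (r • ·) (resM_self _ _ _)).symm.trans hr
    have h1 := congrArg (τ.hom.app (U c)) hr
    rw [Scheme.Modules.Hom.app_smul] at h1
    have h2 : τ.hom.app (U c) (τ.inv.app (U c) (oneSec (U c))) = oneSec (U c) :=
      ConcreteCategory.congr_hom (congrArg (fun a => a.app (U c)) τ.inv_hom_id) _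
    rw [h2] at h1
    exact IsUnit.of_mul_eq_one_right _ h1
  let bu : ∀ c, Γ(X, U c)ˣ := fun c => (hb c).unit
  let q : ∀ c, Γ(X, U c) := fun c => c.M.det ^ m * (((bu c)⁻¹ ^ (p - 1) : Γ(X, U c)ˣ) : Γ(X, U c))
  have hq : ∀ c, q c * b c ^ (p - 1) = c.M.det ^ m := fun c => by
    show _ * (((bu c) : Γ(X, U c))) ^ (p - 1) = _
    rw [mul_assoc, ← Units.val_pow_eq_pow_val, ← Units.val_mul, ← mul_pow, inv_mul_cancel, one_pow,
      Units.val_one, mul_one]
  obtain ⟨G, hG, -⟩ := TopCat.Sheaf.existsUnique_gluing' X.sheaf U ⊤ (fun c => homOfLE le_top) hU q (fun c c' => by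
    refine AmpleLib.sec_ext (Coh.structureModule X) (U := U c ⊓ U c') _ _ fun z hz => ?_
    obtain ⟨O, hO, hOT⟩ := i.isClosedEmbedding.isInducing.isOpen_iff.1 (U c ⊓ U c').2
    have hzO : i z ∈ (⟨O, hO⟩ : Xl.Opens) ⊓ (c.Wl ⊓ c'.Wl) := by
      refine ⟨?_, hz.1, hz.2⟩
      show z ∈ i ⁻¹' O
      rw [hOT]; exact hz
    obtain ⟨Zl, hZl, hzZ, hle⟩ := Opens.isBasis_iff_nbhd.mp Xl.isBasis_affineOpens hzO
    have hZT : i ⁻¹ᵁ Zl ≤ U c ⊓ U c' := fun w hw => by
      have : w ∈ i ⁻¹' O := (hle hw).1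
      rw [hOT] at this; exact this
    have h1 : Zl ≤ c.Wl := hle.trans (inf_le_right.trans inf_le_left)
    have h2 : Zl ≤ c'.Wl := hle.trans (inf_le_right.trans inf_le_right)
    refine ⟨i ⁻¹ᵁ Zl, hZT, hzZ, ?_⟩
    obtain ⟨a, ha, hdet⟩ := exists_compat f φ hφ hsq hF c c' hZl h1 h2
    have hba : res (i.preimage_mono h1) (b c) = a ^ m * res (i.preimage_mono h2) (b c') := by
      have h3 : ∀ (e : Chart f hsq hF d) (he : Zl ≤ e.Wl), res (i.preimage_mono he) (b e) =
          τ.hom.app (i ⁻¹ᵁ Zl) (powSec (resM W (i.preimage_mono he) (omegaSec f φ e.hU e.t)) m) := fun e he => by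
        rw [← resM_powSec, app_resM τ.hom]
        rfl
      rw [h3 c h1, h3 c' h2, ha, powSec_smul, Scheme.Modules.Hom.app_smul]
      rfl
    have e1 : ∀ e (he : Zl ≤ e.Wl), res (i.preimage_mono he) (q e) * res (i.preimage_mono he) (b e) ^ (p - 1) =
        res (i.preimage_mono he) e.M.det ^ m := fun e he => by
      rw [← map_pow, ← map_mul, hq e, map_pow]
    have hu : IsUnit (res (i.preimage_mono h1) (b c) ^ (p - 1)) := ((hb c).map _).pow _
    have key : res (i.preimage_mono h1) (q c) = res (i.preimage_mono h2) (q c') := by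
      refine hu.mul_right_cancel ?_
      rw [e1 c h1, hdet, mul_pow, ← e1 c' h2, hba, mul_pow, ← pow_mul, ← pow_mul, mul_comm (p - 1) m]
      ring
    refine Eq.trans ?_ (Eq.trans key ?_)
    · exact res_res inf_le_left hZT (q c)
    · exact (res_res inf_le_right hZT (q c')).symm)
  have hG' : ∀ c, res (le_top : U c ≤ ⊤) G = q c := hG
  have hGne : G ≠ 0 := by
    intro h0
    obtain ⟨c, hc⟩ := exists_chart f hsq hF (d := d) (genericPoint X)
    haveI : Nonempty (U c) := ⟨⟨_, hc⟩⟩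
    have h := hq c
    rw [← hG' c, h0, map_zero, zero_mul] at h
    exact pow_ne_zero m (c.hdet inferInstance) h.symm
  have hGu : IsUnit (show Γ(X, ⊤) from G) := by
    obtain ⟨G', hG''⟩ := (isField_of_universallyClosed k f).mul_inv_cancel (a := (show Γ(X, ⊤) from G)) hGne
    exact IsUnit.of_mul_eq_one _ hG''

  refine (isUnit_pow_iff hm.ne').1 ?_
  rw [← hq c₀, ← hG' c₀]
  exact (hGu.map _).mul ((hb c₀).pow _)

end Groth.Agent.Lift15
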