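import Groth.Agent.H8Constr.AffineChart
import Groth.Agent.CurveLib.ProjLine
import Mathlib.FieldTheory.RatFunc.Basic

/-!
# The generic point of the projective line with values in the rational function field
-/

set_option autoImplicit false
set_option backward.isDefEq.respectTransparency.types false

universe u

open CategoryTheory AlgebraicGeometry MvPolynomial

namespace Groth.Agent.Lift15

variable {k : Type u} [Field k]

theorem evalAt_injective :
    Function.Injective (CurveLib.evalAt (k := k) (RatFunc.X : RatFunc k)) := by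
  classical
  let hbij := H8Constr.chartHom_bijective 1 k (1 : Fin 2)
  haveI hU : Unique {j : Fin 2 // j ≠ 1} :=
    { default := ⟨0, by decide⟩
      uniq := fun ⟨j, hj⟩ => Subtype.ext (show j = (0 : Fin 2) by omega) }
  have key : (CurveLib.evalAt (k := k) (RatFunc.X : RatFunc k)).comp (H8Constr.chartHom 1 k 1) =
      (algebraMap (Polynomial k) (RatFunc k)).comp (uniqueAlgEquiv k {j : Fin 2 // j ≠ 1}).toRingHom := by
    refine MvPolynomial.ringHom_ext (fun r => ?_) (fun j => ?_)
    · show CurveLib.evalAt _ (H8Constr.chartHom 1 k 1 (C r)) = _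
      rw [H8Constr.chartHom, eval₂Hom_C, CurveLib.evalAt_toAway]
      simp
    · obtain rfl : j = ⟨0, by decide⟩ := Subsingleton.elim _ _
      show CurveLib.evalAt _ (H8Constr.chartHom 1 k 1 (X _)) = _
      rw [H8Constr.chartHom, eval₂Hom_X']
      simp only [CurveLib.evalAt, RingHom.comp_apply, HomogeneousLocalization.algebraMap_apply,
        HomogeneousLocalization.val_mk, Localization.mk_eq_mk', IsLocalization.Away.lift,
        IsLocalization.lift_mk']
      rw [Units.mul_inv_eq_iff_eq_mul, IsUnit.coe_liftRight]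
      simp
  intro a b h
  obtain ⟨a, rfl⟩ := hbij.2 a
  obtain ⟨b, rfl⟩ := hbij.2 b
  have h' : ((CurveLib.evalAt (k := k) (RatFunc.X : RatFunc k)).comp (H8Constr.chartHom 1 k 1)) a =
      ((CurveLib.evalAt (k := k) (RatFunc.X : RatFunc k)).comp (H8Constr.chartHom 1 k 1)) b := h
  rw [key] at h'
  rw [(uniqueAlgEquiv k {j : Fin 2 // j ≠ 1}).injective (RatFunc.algebraMap_injective k h')]

variable (k) in
/-- A dominant point of the projective line with values in the rational function field. -/
theorem exists_dominant_ratFunc :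
    ∃ η : Spec (CommRingCat.of (RatFunc k)) ⟶ CohB1.ProjSpace 1 k, IsDominant η ∧
      η ≫ CohB1.ProjSpace.toSpec 1 k = Spec.map (CommRingCat.ofHom (RatFunc.C (K := k))) := by
  haveI := CurveLib.isIntegral_projSpace k 1
  let ι1 : Spec (CommRingCat.of (HomogeneousLocalization.Away (CohB1.polyGrading 1 k) (X 1))) ⟶ CohB1.ProjSpace 1 k :=
    Proj.awayι (CohB1.polyGrading 1 k) (X 1) (Groth.Agent.ProjLib.X_mem_polyGrading 1 k 1) one_pos
  haveI : IsOpenImmersion ι1 := inferInstanceAs (IsOpenImmersion (Proj.awayι (CohB1.polyGrading 1 k) (X 1)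
    (Groth.Agent.ProjLib.X_mem_polyGrading 1 k 1) one_pos))
  let q : Spec (CommRingCat.of (RatFunc k)) ⟶
      Spec (CommRingCat.of (HomogeneousLocalization.Away (CohB1.polyGrading 1 k) (X 1))) :=
    Spec.map (CommRingCat.ofHom (CurveLib.evalAt (k := k) (RatFunc.X : RatFunc k)))
  haveI : IsDominant q := by
    refine ⟨?_⟩
    exact (PrimeSpectrum.denseRange_comap_iff_ker_le_nilRadical _).2 (by
      exact le_of_eq_of_le ((RingHom.injective_iff_ker_eq_bot _).1 evalAt_injective) bot_le)
  haveI : IsDominant ι1 := by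
    refine ⟨?_⟩
    have hne : (Set.range ι1).Nonempty := ⟨ι1 (q (IsLocalRing.closedPoint (RatFunc k))), _, rfl⟩
    exact IsOpen.dense ι1.isOpenEmbedding.isOpen_range hne
  refine ⟨q ≫ ι1, inferInstance, ?_⟩
  refine (Category.assoc ..).trans ((congrArg (q ≫ ·) (Groth.Agent.ProjLib.awayι_toSpec 1 k
    (Groth.Agent.ProjLib.X_mem_polyGrading 1 k 1) one_pos)).trans ?_)
  refine (Spec.map_comp _ _).symm.trans ?_
  congr 1
  ext c
  exact (CurveLib.evalAt_toAway (RatFunc.X : RatFunc k) c).trans (by simp)

end Groth.Agent.Lift15
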