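import Mathlib.FieldTheory.RatFunc.Degree
import Mathlib.FieldTheory.IsAlgClosed.Basic
import Mathlib.RingTheory.Kaehler.Polynomial
import Mathlib.RingTheory.Kaehler.TensorProduct
import Mathlib.RingTheory.Etale.Kaehler
import Mathlib.RingTheory.Valuation.ValuationSubring
import Mathlib.LinearAlgebra.Matrix.NonsingularInverse

/-!
# Frobenius-periodic vectors over the rational function field

Degrees and poles on the projective line: a vector which is locally moved into itself by an invertible
semilinear matrix and has negative degree vanishes.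
-/

set_option autoImplicit false

universe u

open Polynomial

namespace Groth.Agent.Lift15.RatDescent

variable {k : Type u} [Field k]

local notation "K" => RatFunc k

/-- Regularity at a point of the affine line. -/
def IntAt (a : k) (f : K) : Prop := f.denom.eval a ≠ 0

theorem intAt_polynomial (a : k) (P : k[X]) : IntAt a (algebraMap k[X] K P) := by
  simp [IntAt, RatFunc.denom_algebraMap]

theorem intAt_of_dvd {a : k} {f : K} {Q : k[X]} (h : f.denom ∣ Q) (hQ : Q.eval a ≠ 0) : IntAt a f :=
  fun h0 => hQ (eval_eq_zero_of_dvd_of_eval_eq_zero h h0)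

/-- The local ring of a point of the affine line. -/
def placeAt (a : k) : ValuationSubring K where
  carrier := {f | IntAt a f}
  one_mem' := by simp [IntAt]
  zero_mem' := by simp [IntAt]
  mul_mem' {x y} hx hy := intAt_of_dvd (RatFunc.denom_mul_dvd x y) (by rw [eval_mul]; exact mul_ne_zero hx hy)
  add_mem' {x y} hx hy := intAt_of_dvd (RatFunc.denom_add_dvd x y) (by rw [eval_mul]; exact mul_ne_zero hx hy)
  neg_mem' {x} hx := by
    have h := intAt_of_dvd (a := a) (RatFunc.denom_mul_dvd (-1) x) (by
      rw [eval_mul, show (-1 : K) = algebraMap k[X] K (-1) by simp, RatFunc.denom_algebraMap]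
      simpa [IntAt] using hx)
    simpa using h
  mem_or_inv_mem' x := by
    by_cases hx : x = 0
    · left; subst hx; simp [IntAt]
    by_cases h : x.denom.eval a = 0
    · right
      have hn : x.num.eval a ≠ 0 := by
        intro hn
        obtain ⟨u, v, huv⟩ := RatFunc.isCoprime_num_denom x
        have := congrArg (Polynomial.eval a) huv
        simp [hn, h] at this
      have hinv : x⁻¹ = algebraMap k[X] K x.denom / algebraMap k[X] K x.num := by
        conv_lhs => rw [← RatFunc.num_div_denom x, inv_div]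
      exact intAt_of_dvd (by rw [hinv]; exact RatFunc.denom_div_dvd _ _) hn
    · exact Or.inl h

theorem mem_placeAt {a : k} {f : K} : f ∈ placeAt a ↔ IntAt a f := Iff.rfl

/-- The degree is at most `m`, with no condition on zero. -/
def DegLE (f : K) (m : ℤ) : Prop := f ≠ 0 → f.intDegree ≤ m

theorem DegLE.mono {f : K} {m n : ℤ} (h : DegLE f m) (hmn : m ≤ n) : DegLE f n := fun hf => (h hf).trans hmn

theorem DegLE.zero (m : ℤ) : DegLE (0 : K) m := fun h => absurd rfl h

theorem DegLE.add {f g : K} {m : ℤ} (hf : DegLE f m) (hg : DegLE g m) : DegLE (f + g) m := by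
  intro h
  by_cases hg0 : g = 0
  · subst hg0; rw [add_zero] at h ⊢; exact hf h
  by_cases hf0 : f = 0
  · subst hf0; rw [zero_add] at h ⊢; exact hg h
  exact (RatFunc.intDegree_add_le hg0 h).trans (max_le (hf hf0) (hg hg0))

theorem DegLE.mul {f g : K} {m n : ℤ} (hf : DegLE f m) (hg : DegLE g n) : DegLE (f * g) (m + n) := by
  intro h
  obtain ⟨h1, h2⟩ := mul_ne_zero_iff.1 h
  rw [RatFunc.intDegree_mul h1 h2]
  exact add_le_add (hf h1) (hg h2)

theorem DegLE.sum {ι : Type*} (s : Finset ι) {f : ι → K} {m : ℤ} (h : ∀ i ∈ s, DegLE (f i) m) :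
    DegLE (∑ i ∈ s, f i) m :=
  Finset.sum_induction f (DegLE · m) (fun _ _ => DegLE.add) (DegLE.zero m) h

theorem degLE_pow {f : K} {m : ℤ} (h : DegLE f m) (n : ℕ) : DegLE (f ^ n) (n * m) := by
  induction n with
  | zero => intro _; simp
  | succ n ih =>
    rw [pow_succ]
    exact (ih.mul h).mono (le_of_eq (by push_cast; ring))

/-- The local ring at infinity. -/
def placeInf : ValuationSubring K where
  carrier := {f | DegLE f 0}
  one_mem' := fun _ => by simp
  zero_mem' := DegLE.zero 0
  mul_mem' {_ _} hx hy := by simpa using DegLE.mul hx hy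
  add_mem' {_ _} hx hy := DegLE.add hx hy
  neg_mem' {x} hx := fun h => by rw [RatFunc.intDegree_neg]; exact hx (by simpa using h)
  mem_or_inv_mem' x := by
    rcases le_total x.intDegree 0 with h | h
    · exact Or.inl fun _ => h
    · exact Or.inr fun _ => by rw [RatFunc.intDegree_inv]; omega

theorem mem_placeInf {f : K} : f ∈ (placeInf : ValuationSubring K) ↔ DegLE f 0 := Iff.rfl

/-- A polynomial which is regular everywhere. -/
theorem exists_polynomial [IsAlgClosed k] {f : K} (h : ∀ a, IntAt a f) : ∃ P : k[X], f = algebraMap k[X] K P := by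
  have hd : f.denom.natDegree = 0 := by
    by_contra hd
    obtain ⟨a, ha⟩ := IsAlgClosed.exists_root f.denom (by
      rw [degree_eq_natDegree (RatFunc.denom_ne_zero f)]; exact_mod_cast hd)
    exact h a ha
  have h1 : f.denom = 1 := eq_one_of_monic_natDegree_zero (RatFunc.monic_denom f) hd
  refine ⟨f.num, ?_⟩
  conv_lhs => rw [← RatFunc.num_div_denom f, h1, map_one, div_one]

theorem eq_zero_of_degLE_neg [IsAlgClosed k] {f : K} (h : ∀ a, IntAt a f) {m : ℤ} (hm : m < 0)
    (hf : DegLE f m) : f = 0 := by
  obtain ⟨P, rfl⟩ := exists_polynomial h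
  by_contra h0
  have := hf h0
  rw [RatFunc.intDegree_polynomial] at this
  omega

/-! ### The derivation -/

section Deriv

/-- The derivative of a rational function. -/
noncomputable def dRat : Derivation k K K :=
  haveI : Algebra.FormallyEtale k[X] K := Algebra.FormallyEtale.of_isLocalization (nonZeroDivisors k[X])
  ((LinearMap.liftBaseChange K ((Algebra.linearMap k[X] K).comp
      (KaehlerDifferential.polynomialEquiv k).toLinearMap)).comp
    (KaehlerDifferential.tensorKaehlerEquivOfFormallyEtale k k[X] K).symm.toLinearMap).compDer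
      (KaehlerDifferential.D k K)

theorem dRat_algebraMap (P : k[X]) : dRat (algebraMap k[X] K P) = algebraMap k[X] K (derivative P) := by
  haveI : Algebra.FormallyEtale k[X] K := Algebra.FormallyEtale.of_isLocalization (nonZeroDivisors k[X])
  simp [dRat, KaehlerDifferential.tensorKaehlerEquivOfFormallyEtale_symm_D_algebraMap,
    KaehlerDifferential.polynomialEquiv_D]

theorem dRat_div (P Q : k[X]) :
    dRat (algebraMap k[X] K P / algebraMap k[X] K Q) =
      algebraMap k[X] K (derivative P * Q - P * derivative Q) / algebraMap k[X] K (Q ^ 2) := by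
  rw [Derivation.leibniz_div, dRat_algebraMap, dRat_algebraMap]
  simp only [smul_eq_mul, map_sub, map_mul, map_pow, inv_pow]
  rw [div_eq_mul_inv]
  ring

theorem dRat_eq (f : K) : dRat f =
    algebraMap k[X] K (derivative f.num * f.denom - f.num * derivative f.denom) / algebraMap k[X] K (f.denom ^ 2) := by
  conv_lhs => rw [← RatFunc.num_div_denom f]
  exact dRat_div _ _

theorem intAt_dRat {a : k} {f : K} (h : IntAt a f) : IntAt a (dRat f) := by
  rw [dRat_eq]
  exact intAt_of_dvd (RatFunc.denom_div_dvd _ _) (by rw [eval_pow]; exact pow_ne_zero _ h)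

theorem degLE_dRat {f : K} (h : DegLE f 0) : DegLE (dRat f) (-2) := by
  intro hne
  by_cases hf : f = 0
  · subst hf; simp at hne
  rw [dRat_eq] at hne ⊢
  set P := f.num
  set Q := f.denom
  have hQ0 : Q ≠ 0 := RatFunc.denom_ne_zero f
  have hQm : Q.Monic := RatFunc.monic_denom f
  have hPQ : P.natDegree ≤ Q.natDegree := by
    have := h hf
    rw [RatFunc.intDegree] at this
    change (P.natDegree : ℤ) - Q.natDegree ≤ 0 at this
    omega
  set N := derivative P * Q - P * derivative Q with hN
  have hN0 : N ≠ 0 := by intro h0; rw [h0, map_zero, zero_div] at hne; exact hne rfl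
  have hq : Q.natDegree ≠ 0 := by
    intro hq
    refine hN0 ?_
    rw [hN, derivative_of_natDegree_zero (p := P) (by omega), derivative_of_natDegree_zero hq]
    ring
  have hdeg : N.natDegree + 2 ≤ 2 * Q.natDegree := by
    set R := P - C (P.coeff Q.natDegree) * Q with hR
    have hR1 : R.natDegree ≤ Q.natDegree - 1 := by
      rw [natDegree_le_iff_coeff_eq_zero]
      intro n hn
      rw [hR, coeff_sub, coeff_C_mul]
      rcases lt_trichotomy n Q.natDegree with hlt | heq | hgt
      · omega
      · rw [heq, hQm.coeff_natDegree, mul_one, sub_self]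
      · rw [coeff_eq_zero_of_natDegree_lt (hPQ.trans_lt hgt), coeff_eq_zero_of_natDegree_lt hgt, mul_zero, sub_self]
    have hN' : N = derivative R * Q - R * derivative Q := by
      rw [hN, hR, derivative_sub, derivative_C_mul]; ring
    by_cases hR0 : R.natDegree = 0
    · have : N = -(R * derivative Q) := by rw [hN', derivative_of_natDegree_zero hR0]; ring
      rw [this, natDegree_neg]
      have h1 := natDegree_mul_le (p := R) (q := derivative Q)
      have h2 := natDegree_derivative_le Q
      omega
    · rw [hN']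
      have h1 := natDegree_sub_le (derivative R * Q) (R * derivative Q)
      have h2 := natDegree_mul_le (p := R) (q := derivative Q)
      have h3 := natDegree_mul_le (p := derivative R) (q := Q)
      have h4 := natDegree_derivative_le Q
      have h5 := natDegree_derivative_le R
      rcases max_cases (derivative R * Q).natDegree (R * derivative Q).natDegree with ⟨hm, -⟩ | ⟨hm, -⟩ <;> omega
  rw [RatFunc.intDegree_div (by simpa using hN0) (by simpa using hQ0), RatFunc.intDegree_polynomial,
    RatFunc.intDegree_polynomial, natDegree_pow]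
  omega

variable (p : ℕ) [hp : Fact p.Prime] [CharP k p]

/-- A rational function with derivative zero is a `p`-th power. -/
theorem exists_pow_eq [PerfectRing k p] {f : K} (h : dRat f = 0) : ∃ g : K, g ^ p = f := by
  haveI : ExpChar k p := ExpChar.prime hp.out
  set P := f.num with hPdef
  set Q := f.denom with hQdef
  have hQ0 : Q ≠ 0 := RatFunc.denom_ne_zero f
  rw [dRat_eq, div_eq_zero_iff] at h
  have hN : derivative P * Q - P * derivative Q = 0 := by
    rcases h with h | h
    · exact RatFunc.algebraMap_injective k (h.trans (map_zero _).symm)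
    · exact absurd h (by simpa using hQ0)
  have hcop : IsCoprime P Q := RatFunc.isCoprime_num_denom f
  have hQ' : derivative Q = 0 := by
    by_contra hne
    have hdvd : Q ∣ derivative Q :=
      hcop.symm.dvd_of_dvd_mul_left ⟨derivative P, by rw [← sub_eq_zero.1 hN]; ring⟩
    exact absurd (degree_le_of_dvd hdvd hne) (not_le.2 (degree_derivative_lt hQ0))
  have hP' : derivative P = 0 := by
    rw [hQ', mul_zero, sub_zero, mul_eq_zero] at hN
    exact hN.resolve_right hQ0
  have key : ∀ R : k[X], derivative R = 0 → ∃ S : k[X], S ^ p = R := fun R hR => by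
    refine ⟨(contract p R).map ((frobeniusEquiv k p).symm : k →+* k), ?_⟩
    rw [← map_frobenius_expand, map_expand, map_map]
    have : (frobenius k p).comp ((frobeniusEquiv k p).symm : k →+* k) = RingHom.id k :=
      RingHom.ext fun x => frobeniusEquiv_symm_pow_p k p x
    rw [this, Polynomial.map_id, expand_contract p hR hp.out.ne_zero]
  obtain ⟨P1, hP1⟩ := key P hP'
  obtain ⟨Q1, hQ1⟩ := key Q hQ'
  refine ⟨algebraMap k[X] K P1 / algebraMap k[X] K Q1, ?_⟩
  rw [div_pow, ← map_pow, ← map_pow, hP1, hQ1]
  exact RatFunc.num_div_denom f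

end Deriv

/-- A rational function which is an arbitrarily high power is constant. -/
theorem exists_eq_C {f : K} (h : ∀ m : ℕ, ∃ n, m < n ∧ ∃ g : K, g ^ n = f) : ∃ c : k, f = RatFunc.C c := by
  by_cases hf : f = 0
  · exact ⟨0, by rw [hf, map_zero]⟩
  obtain ⟨n, hn, g, hg⟩ := h (f.num.natDegree + f.denom.natDegree)
  have h1 : algebraMap k[X] K f.num * algebraMap k[X] K (g.denom ^ n) =
      algebraMap k[X] K (g.num ^ n) * algebraMap k[X] K f.denom := by
    have hf' := RatFunc.num_div_denom f
    have hg' := RatFunc.num_div_denom g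
    have d1 : algebraMap k[X] K f.denom ≠ 0 := by simpa using RatFunc.denom_ne_zero f
    have d2 : algebraMap k[X] K g.denom ^ n ≠ 0 := pow_ne_zero _ (by simpa using RatFunc.denom_ne_zero g)
    rw [map_pow, map_pow]
    rw [← hg', div_pow] at hg
    rw [← hf'] at hg
    rw [div_eq_div_iff d2 d1] at hg
    exact hg.symm
  rw [← map_mul, ← map_mul] at h1
  have h2 : f.num * g.denom ^ n = g.num ^ n * f.denom := RatFunc.algebraMap_injective k h1
  have hcg : IsCoprime (g.num ^ n) (g.denom ^ n) := (RatFunc.isCoprime_num_denom g).pow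
  have e1 : g.num ^ n ∣ f.num := hcg.dvd_of_dvd_mul_right ⟨f.denom, h2⟩
  have e2 : g.denom ^ n ∣ f.denom := hcg.symm.dvd_of_dvd_mul_left ⟨f.num, by rw [← h2]; ring⟩
  have hnum : f.num ≠ 0 := RatFunc.num_ne_zero hf
  have hg0 : g ≠ 0 := by rintro rfl; exact hf (by rw [← hg, zero_pow (by omega)])
  have a1 := natDegree_le_of_dvd e1 hnum
  have a2 := natDegree_le_of_dvd e2 (RatFunc.denom_ne_zero f)
  rw [natDegree_pow] at a1 a2
  have b1 : g.num.natDegree = 0 := by
    by_contra hb
    have := Nat.le_mul_of_pos_right n (Nat.pos_of_ne_zero hb)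
    omega
  have b2 : g.denom.natDegree = 0 := by
    by_contra hb
    have := Nat.le_mul_of_pos_right n (Nat.pos_of_ne_zero hb)
    omega
  obtain ⟨c, hc⟩ := natDegree_eq_zero.1 b1
  have hd : g.denom = 1 := eq_one_of_monic_natDegree_zero (RatFunc.monic_denom g) b2
  refine ⟨c ^ n, ?_⟩
  rw [← hg, ← RatFunc.num_div_denom g, hd, ← hc, map_one, div_one, RatFunc.algebraMap_C, map_pow]

/-! ### Descent -/

section Descent

variable (p : ℕ) [hp : Fact p.Prime] [CharP k p] [ExpChar (RatFunc k) p] {ι : Type*} [Fintype ι] [DecidableEq ι]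

/-- The iterates of a vector under a semilinear matrix. -/
noncomputable def iter (N : Matrix ι ι K) (δ : ι → K) : ℕ → ι → K
  | 0 => δ
  | n + 1 => N.mulVec fun i => iter N δ n i ^ p

theorem iter_eq {N N' B : Matrix ι ι K} {δ δ' : ι → K} (hδ : δ = B.mulVec δ')
    (hN : N * B.map (frobenius K p) = B * N') : ∀ n, iter p N δ n = B.mulVec (iter p N' δ' n)
  | 0 => hδ
  | n + 1 => by
    have h : (fun i => iter p N δ n i ^ p) = (B.map (frobenius K p)).mulVec fun i => iter p N' δ' n i ^ p := by
      funext i
      rw [iter_eq hδ hN n]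
      exact RingHom.map_mulVec (frobenius K p) B _ i
    show N.mulVec _ = B.mulVec (N'.mulVec _)
    rw [h, Matrix.mulVec_mulVec, hN, Matrix.mulVec_mulVec]

theorem iter_intAt {a : k} {N : Matrix ι ι K} {δ : ι → K} (hN : ∀ i j, IntAt a (N i j)) (hδ : ∀ i, IntAt a (δ i)) :
    ∀ n i, IntAt a (iter p N δ n i)
  | 0, i => hδ i
  | n + 1, i => by
    show _ ∈ placeAt a
    exact sum_mem fun j _ => mul_mem (hN i j) (pow_mem (show _ ∈ placeAt a from iter_intAt hN hδ n j) p)

theorem iter_degLE {N : Matrix ι ι K} {δ : ι → K} (hN : ∀ i j, DegLE (N i j) 0) (hδ : ∀ i, DegLE (δ i) (-2)) :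
    ∀ n i, DegLE (iter p N δ n i) (-2 * (p : ℤ) ^ n)
  | 0, i => (hδ i).mono (by simp)
  | n + 1, i => DegLE.sum _ fun j _ =>
      ((hN i j).mul (degLE_pow (iter_degLE hN hδ n j) p)).mono (le_of_eq (by rw [pow_succ]; ring))

/-- The key descent statement. -/
theorem eq_zero_of_local [IsAlgClosed k] (N0 : Matrix ι ι K) (hN0 : IsUnit N0.det) (δ0 : ι → K)
    (hfin : ∀ a : k, ∃ (B N : Matrix ι ι K) (δ : ι → K), (∀ i j, IntAt a (N i j)) ∧ (∀ i, IntAt a (δ i)) ∧
      δ0 = B.mulVec δ ∧ N0 * B.map (frobenius K p) = B * N)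
    (hinf : ∃ (B N : Matrix ι ι K) (δ : ι → K), (∀ i j, DegLE (N i j) 0) ∧ (∀ i, DegLE (δ i) (-2)) ∧
      δ0 = B.mulVec δ ∧ N0 * B.map (frobenius K p) = B * N) : δ0 = 0 := by
  classical
  choose B N δ hN hδ hB hNB using hfin
  obtain ⟨Bi, Ni, δi, hNi, hδi, hBi, hNBi⟩ := hinf
  let E : k[X] := (∏ i, ∏ j, (N0 i j).denom) * ∏ i, (δ0 i).denom
  have hE : E ≠ 0 := mul_ne_zero (Finset.prod_ne_zero_iff.2 fun i _ => Finset.prod_ne_zero_iff.2 fun j _ =>
    RatFunc.denom_ne_zero _) (Finset.prod_ne_zero_iff.2 fun i _ => RatFunc.denom_ne_zero _)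
  let S : Finset k := E.roots.toFinset
  let Q : k[X] := ∏ a ∈ S, ∏ i, ∏ j, (B a i j).denom
  let m : ℤ := ∑ i, ∑ j, |(Bi i j).intDegree|
  obtain ⟨n, hn⟩ : ∃ n, (Q.natDegree : ℤ) + m < 2 * (p : ℤ) ^ n := by
    refine ⟨((Q.natDegree : ℤ) + m).toNat, ?_⟩
    have h1 := Nat.lt_pow_self (n := ((Q.natDegree : ℤ) + m).toNat) hp.out.one_lt
    have h2 := Int.self_le_toNat ((Q.natDegree : ℤ) + m)
    have h3 : ((((Q.natDegree : ℤ) + m).toNat : ℕ) : ℤ) < (p : ℤ) ^ ((Q.natDegree : ℤ) + m).toNat := by exact_mod_cast h1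
    omega
  have hm : ∀ i j, DegLE (Bi i j) m := fun i j _ => by
    refine (le_abs_self _).trans ((Finset.single_le_sum (fun j _ => abs_nonneg (Bi i j).intDegree)
      (Finset.mem_univ j)).trans ?_)
    exact Finset.single_le_sum (f := fun i => ∑ j, |(Bi i j).intDegree|)
      (fun i _ => Finset.sum_nonneg fun j _ => abs_nonneg _) (Finset.mem_univ i)
  have hQ : Q ≠ 0 := Finset.prod_ne_zero_iff.2 fun a _ => Finset.prod_ne_zero_iff.2 fun i _ =>
    Finset.prod_ne_zero_iff.2 fun j _ => RatFunc.denom_ne_zero _
  have hzero : ∀ i, iter p N0 δ0 n i = 0 := by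
    intro i
    have hint : ∀ a, IntAt a (algebraMap k[X] K Q * iter p N0 δ0 n i) := by
      intro a
      show _ ∈ placeAt a
      by_cases ha : a ∈ S
      · rw [iter_eq p (hB a) (hNB a) n]
        simp only [Matrix.mulVec, dotProduct, Finset.mul_sum]
        refine sum_mem fun j _ => ?_
        rw [← mul_assoc]
        refine mul_mem ?_ (iter_intAt p (hN a) (hδ a) n j)
        have hdvd : (B a i j).denom ∣ Q :=
          ((Finset.dvd_prod_of_mem _ (Finset.mem_univ j)).trans
            (Finset.dvd_prod_of_mem (fun i => ∏ j, (B a i j).denom) (Finset.mem_univ i))).trans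
            (Finset.dvd_prod_of_mem (fun a => ∏ i, ∏ j, (B a i j).denom) ha)
        obtain ⟨R, hR⟩ := hdvd
        have e : algebraMap k[X] K Q * B a i j = algebraMap k[X] K (R * (B a i j).num) := by
          conv_lhs => rw [← RatFunc.num_div_denom (B a i j)]
          rw [hR, map_mul, map_mul]
          field_simp [show algebraMap k[X] K (B a i j).denom ≠ 0 by simpa using RatFunc.denom_ne_zero _]
        rw [e]
        exact intAt_polynomial a _
      · have hEa : E.eval a ≠ 0 := fun h0 => ha (Multiset.mem_toFinset.2 ((mem_roots hE).2 h0))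
        refine mul_mem (intAt_polynomial a Q) (iter_intAt p (fun i j => ?_) (fun i => ?_) n i)
        · exact intAt_of_dvd (((Finset.dvd_prod_of_mem _ (Finset.mem_univ j)).trans
            (Finset.dvd_prod_of_mem (fun i => ∏ j, (N0 i j).denom) (Finset.mem_univ i))).mul_right _) hEa
        · exact intAt_of_dvd ((Finset.dvd_prod_of_mem _ (Finset.mem_univ i)).mul_left _) hEa
    have hdeg : DegLE (algebraMap k[X] K Q * iter p N0 δ0 n i) ((Q.natDegree : ℤ) + (m + -2 * (p : ℤ) ^ n)) := by
      refine DegLE.mul (fun _ => le_of_eq RatFunc.intDegree_polynomial) ?_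
      rw [iter_eq p hBi hNBi n]
      exact DegLE.sum _ fun j _ => (hm i j).mul (iter_degLE p hNi hδi n j)
    have h0 := eq_zero_of_degLE_neg hint (by omega) hdeg
    exact (mul_eq_zero.1 h0).resolve_left (by simpa using hQ)
  have hback : ∀ m, (∀ i, iter p N0 δ0 m i = 0) → δ0 = 0 := by
    intro m
    induction m with
    | zero => exact fun h => funext h
    | succ m ih =>
      intro h
      have hv : N0.mulVec (fun i => iter p N0 δ0 m i ^ p) = N0.mulVec 0 := by
        rw [Matrix.mulVec_zero]; exact funext h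
      have := (Matrix.mulVec_injective_iff_isUnit.2 ((Matrix.isUnit_iff_isUnit_det N0).2 hN0)) hv
      exact ih fun i => pow_eq_zero_iff hp.out.ne_zero |>.1 (congrFun this i)
  exact hback n hzero

end Descent

end Groth.Agent.Lift15.RatDescent
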