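import Groth.Agent.Lift15.ChartUnit
import Groth.Agent.Lift15.RatFuncDescent
import Mathlib.AlgebraicGeometry.ValuativeCriterion

/-!
# Rational curves on a scheme with a lift of Frobenius and unit Jacobians

Every function of a chart restricted to a rational curve has vanishing derivative, hence is constant.
-/

set_option autoImplicit false
set_option linter.unusedSectionVars false
set_option backward.isDefEq.respectTransparency false
set_option maxHeartbeats 1000000

universe u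

open CategoryTheory AlgebraicGeometry TopologicalSpace Opposite KaehlerDifferential
open Groth.Agent.Lift15.RatDescent

namespace Groth.Agent.Lift15

section Algebra

/-- A function derivation along a ring map gives an additive functional on differentials. -/
theorem exists_functional {k A F : Type u} [Field k] [CommRing A] [Algebra k A] [CommRing F] (ψ : A →+* F)
    (D' : F → F) (hadd : ∀ x y, D' (x + y) = D' x + D' y) (hmul : ∀ x y, D' (x * y) = x * D' y + y * D' x)
    (hc : ∀ c, D' (ψ (algebraMap k A c)) = 0) :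
    ∃ L : Ω[A⁄k] →+ F, (∀ a w, L (a • w) = ψ a * L w) ∧ ∀ a, L (D k A a) = D' (ψ a) := by
  letI : Algebra A F := ψ.toAlgebra
  letI : Algebra k F := (ψ.comp (algebraMap k A)).toAlgebra
  haveI : IsScalarTower k A F := IsScalarTower.of_algebraMap_eq' rfl
  let l : A →ₗ[k] F :=
    { toFun := fun a => D' (ψ a)
      map_add' := fun a b => by rw [map_add, hadd]
      map_smul' := fun c a => by
        rw [Algebra.smul_def, map_mul, hmul, hc, mul_zero, add_zero, Algebra.smul_def]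
        rfl }
  let dd : Derivation k A F := Derivation.mk' l fun a b => by
    show D' (ψ (a * b)) = a • D' (ψ b) + b • D' (ψ a)
    rw [map_mul, hmul]
    rfl
  exact ⟨dd.liftKaehlerDifferential.toAddMonoidHom, fun a w => (dd.liftKaehlerDifferential.map_smul a w),
    fun a => dd.liftKaehlerDifferential_comp_D a⟩

variable {p : ℕ} [hp : Fact p.Prime] {k : Type u} [Field k] [CharP k p] [PerfectRing k p]
  {A : Type u} [CommRing A] [Algebra k A] {B : Type u} [CommRing B] {ι : FrobAlg.W2 p k →+* B}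
  {π : B →+* A} {Φ : B →+* B} {d : ℕ}

/-- The change of coordinates intertwines the Jacobians up to Frobenius. -/
theorem exists_change (hΦ : Frob15.IsFLift p k A B ι π Φ) {t t' : Fin d → A} {M M' : Matrix (Fin d) (Fin d) A}
    (hM : Frob15.IsJac hΦ t M) (hM' : Frob15.IsJac hΦ t' M') :
    ∃ Bc : Matrix (Fin d) (Fin d) A, (∀ i, D k A (t i) = ∑ j, Bc i j • D k A (t' j)) ∧
      M * Bc = Bc.map (· ^ p) * M' := by
  obtain ⟨⟨b, hb⟩, hM⟩ := hM
  obtain ⟨⟨b', hb'⟩, hM'⟩ := hM'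
  let Bc : Matrix (Fin d) (Fin d) A := Matrix.of fun i j => b'.repr (D k A (t i)) j
  have hB : ∀ i, D k A (t i) = ∑ j, Bc i j • D k A (t' j) := fun i => by
    simp only [Bc, Matrix.of_apply, ← hb']
    exact (b'.sum_repr _).symm
  refine ⟨Bc, hB, ?_⟩
  let σ : A →+* A :=
    { toFun := fun a => a ^ p
      map_one' := one_pow p
      map_mul' := fun x y => mul_pow x y p
      map_zero' := zero_pow hp.out.ne_zero
      map_add' := fun x y => by
        obtain ⟨r, hr⟩ := exists_add_pow_prime_eq hp.out x y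
        rw [hr, Frob15.natCast_p_eq_zero hΦ]
        ring }
  obtain ⟨ξ, hξ⟩ := Frob15.exists_xi hΦ σ fun _ => rfl
  have h1 : ∀ i, (∑ l, (M * Bc) i l • b' l) = ∑ l, (Bc.map (· ^ p) * M') i l • b' l := by
    intro i
    have e1 : ξ (D k A (t i)) = ∑ l, (M * Bc) i l • b' l := by
      rw [hξ, hM i]
      simp only [Matrix.mul_apply, Finset.sum_smul, mul_smul]
      rw [Finset.sum_comm]
      refine Finset.sum_congr rfl fun j _ => ?_
      rw [← Finset.smul_sum]
      simp only [hb']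
      rw [← hB]
    have e2 : ξ (D k A (t i)) = ∑ l, (Bc.map (· ^ p) * M') i l • b' l := by
      rw [hB i, map_sum]
      simp only [LinearMap.map_smulₛₗ, hξ, hM', Matrix.mul_apply, Finset.sum_smul, mul_smul, Matrix.map_apply]
      rw [Finset.sum_comm]
      refine Finset.sum_congr rfl fun j _ => ?_
      rw [← Finset.smul_sum]
      simp only [hb']
      rfl
    exact e1.symm.trans e2
  ext i l
  have h2 := congrArg (fun w => b'.repr w l) (h1 i)
  simp only [map_sum, map_smul, Module.Basis.repr_self, Finsupp.coe_finset_sum, Finset.sum_apply,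
    Finsupp.coe_smul, Pi.smul_apply, Finsupp.single_apply, smul_eq_mul, mul_ite, mul_one, mul_zero,
    Finset.sum_ite_eq', Finset.mem_univ, if_true] at h2
  exact h2

end Algebra

section Geometry

variable {p : ℕ} [hp : Fact p.Prime] {k : Type u} [Field k] [CharP k p]
  {X : Scheme.{u}} {f : X ⟶ Spec (CommRingCat.of k)}

theorem fromSpec_comp {U : X.Opens} (hU : IsAffineOpen U) :
    hU.fromSpec ≫ f = Spec.map (CommRingCat.ofHom (Frob15.strMap f U)) := by
  rw [← IsAffineOpen.SpecMap_appLE_fromSpec f (isAffineOpen_top (Spec (CommRingCat.of k))) hU le_top,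
    IsAffineOpen.fromSpec_top, Scheme.isoSpec_Spec_inv, ← Spec.map_comp]
  rfl

/-- A point with values in a field factors through an affine open containing its image. -/
theorem exists_factor {F : Type u} [Field F] (ρ : Spec (CommRingCat.of F) ⟶ X) {U : X.Opens} (hU : IsAffineOpen U)
    (h : ρ (IsLocalRing.closedPoint F) ∈ U) : ∃ ψ : Γ(X, U) →+* F, ρ = Spec.map (CommRingCat.ofHom ψ) ≫ hU.fromSpec := by
  have hr : Set.range ρ ⊆ Set.range hU.fromSpec := by
    rw [hU.range_fromSpec]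
    rintro _ ⟨q, rfl⟩
    rwa [Subsingleton.elim (α := PrimeSpectrum F) q (IsLocalRing.closedPoint F)]
  refine ⟨(Spec.preimage (IsOpenImmersion.lift hU.fromSpec ρ hr)).hom, ?_⟩
  rw [CommRingCat.ofHom_hom, Spec.map_preimage, IsOpenImmersion.lift_fac]

theorem factor_res {F : Type u} [Field F] {U V : X.Opens} (hU : IsAffineOpen U) (hV : IsAffineOpen V) (h : V ≤ U)
    (ψ : Γ(X, U) →+* F) (ψ' : Γ(X, V) →+* F)
    (he : Spec.map (CommRingCat.ofHom ψ') ≫ hV.fromSpec = Spec.map (CommRingCat.ofHom ψ) ≫ hU.fromSpec)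
    (a : Γ(X, U)) : ψ' (X.presheaf.map (homOfLE h).op a) = ψ a := by
  rw [← hU.map_fromSpec hV (homOfLE h).op, ← Category.assoc, cancel_mono, ← Spec.map_comp] at he
  exact ConcreteCategory.congr_hom (Spec.map_injective he) a

/-- The centre of a rational curve at a place lies in some chart. -/
theorem exists_centre [UniversallyClosed f] (R : ValuationSubring (RatFunc k))
    {U₀ : X.Opens} (hU₀ : IsAffineOpen U₀) (ψ₀ : Γ(X, U₀) →+* RatFunc k)
    (hR : ∀ c, ψ₀ (Frob15.strMap f U₀ c) ∈ R) :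
    ∃ x : X, ∀ (U : X.Opens) (hU : IsAffineOpen U), x ∈ U →
      ∃ ψ : Γ(X, U) →+* RatFunc k, (∀ a, ψ a ∈ R) ∧
        Spec.map (CommRingCat.ofHom ψ) ≫ hU.fromSpec = Spec.map (CommRingCat.ofHom ψ₀) ≫ hU₀.fromSpec := by
  let κ : k →+* R := (ψ₀.comp (Frob15.strMap f U₀)).codRestrict R.toSubring hR
  let ρ := Spec.map (CommRingCat.ofHom ψ₀) ≫ hU₀.fromSpec
  have hsq : CommSq ρ (Spec.map (CommRingCat.ofHom (algebraMap R (RatFunc k)))) f (Spec.map (CommRingCat.ofHom κ)) := by
    refine ⟨?_⟩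
    show (Spec.map (CommRingCat.ofHom ψ₀) ≫ hU₀.fromSpec) ≫ f = _
    rw [Category.assoc, fromSpec_comp hU₀, ← Spec.map_comp, ← Spec.map_comp]
    rfl
  have hex : ValuativeCriterion.Existence f := by
    have h := (inferInstance : UniversallyClosed f)
    rw [UniversallyClosed.eq_valuativeCriterion] at h
    exact h.1
  obtain ⟨⟨⟨l, hl, -⟩⟩⟩ := hex { R := R, K := RatFunc k, i₁ := ρ, i₂ := _, commSq := hsq }
  refine ⟨l (IsLocalRing.closedPoint R), fun U hU hx => ?_⟩
  have htop : l ⁻¹ᵁ U = ⊤ := IsLocalRing.closed_point_mem_iff.1 hx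
  have hr : Set.range l ⊆ Set.range hU.fromSpec := by
    rw [hU.range_fromSpec]
    rintro _ ⟨q, rfl⟩
    have : q ∈ l ⁻¹ᵁ U := by rw [htop]; trivial
    exact this
  let θ : Γ(X, U) ⟶ CommRingCat.of R := Spec.preimage (IsOpenImmersion.lift hU.fromSpec l hr)
  refine ⟨R.subtype.comp θ.hom, fun a => (θ.hom a).2, ?_⟩
  have e : l = Spec.map θ ≫ hU.fromSpec := by rw [Spec.map_preimage, IsOpenImmersion.lift_fac]
  rw [e, ← Category.assoc, ← Spec.map_comp] at hl
  exact hl

variable [IsAlgClosed k] [PerfectRing k p] [FrobSch.IsCharP X p] [QuasiSeparated f] {d : ℕ}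
  {Xl : Scheme.{u}} {g : Xl ⟶ Spec (CommRingCat.of (FrobAlg.W2 p k))} [Flat g]
  {i : X ⟶ Xl} {Fl : Xl ⟶ Xl}
  (hsq : IsPullback i f g (Spec.map (CommRingCat.ofHom (FrobAlg.res p k))))
  (hF : i ≫ Fl = FrobSch.frob X p ≫ i)

theorem isJac_res (c : Chart f hsq hF d) {Zl : Xl.Opens} (hZl : IsAffineOpen Zl) (h : Zl ≤ c.Wl)
    (hZ : IsAffineOpen (i ⁻¹ᵁ Zl)) :
    letI := (Frob15.strMap f (i ⁻¹ᵁ Zl)).toAlgebra
    Frob15.IsJac (Frob15.isFLift hsq hF hZl)
      (fun j => X.presheaf.map (homOfLE (i.preimage_mono h)).op (c.t j))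
      (c.M.map (X.presheaf.map (homOfLE (i.preimage_mono h)).op)) := by
  letI := (Frob15.strMap f (i ⁻¹ᵁ Zl)).toAlgebra
  letI := (Frob15.strMap f (i ⁻¹ᵁ c.Wl)).toAlgebra
  letI := (X.presheaf.map (homOfLE (i.preimage_mono h)).op).hom.toAlgebra
  haveI := formallyEtale_res c.hU hZ (i.preimage_mono h)
  haveI : IsScalarTower k Γ(X, i ⁻¹ᵁ c.Wl) Γ(X, i ⁻¹ᵁ Zl) :=
    IsScalarTower.of_algebraMap_eq' (strMap_res f (i.preimage_mono h)).symm
  exact Frob15.IsJac.map (Frob15.isFLift hsq hF c.hWl) (Frob15.isFLift hsq hF hZl)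
    (Xl.presheaf.map (homOfLE h).op).hom
    (fun z => ConcreteCategory.congr_hom (i.naturality (homOfLE h).op) z)
    (fun z => Frob15.res_phiRing hsq hF h z) c.hM

include hsq hF in
/-- Two charts through the same rational curve are related by a change of coordinates. -/
theorem exists_transition [CharP (RatFunc k) p] (c c' : Chart f hsq hF d) (hc : IsUnit c.M.det)
    (hc' : IsUnit c'.M.det) (ψ : Γ(X, i ⁻¹ᵁ c.Wl) →+* RatFunc k) (ψ' : Γ(X, i ⁻¹ᵁ c'.Wl) →+* RatFunc k)
    (hψ : ∀ a, ∃ b, ψ (Frob15.strMap f (i ⁻¹ᵁ c.Wl) a) = RatFunc.C b)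
    (he : Spec.map (CommRingCat.ofHom ψ') ≫ c'.hU.fromSpec = Spec.map (CommRingCat.ofHom ψ) ≫ c.hU.fromSpec) :
    ∃ B : Matrix (Fin d) (Fin d) (RatFunc k),
      (fun j => dRat (ψ (c.t j))) = B.mulVec (fun j => dRat (ψ' (c'.t j))) ∧
      (c.M⁻¹).map ψ * B.map (frobenius (RatFunc k) p) = B * (c'.M⁻¹).map ψ' := by
  classical
  obtain ⟨hcl, -⟩ := Frob15.isClosedImmersion_and_surjective hsq
  let ρ := Spec.map (CommRingCat.ofHom ψ) ≫ c.hU.fromSpec
  let z := ρ (IsLocalRing.closedPoint (RatFunc k))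
  have hz : z ∈ i ⁻¹ᵁ c.Wl := by
    have : z ∈ Set.range c.hU.fromSpec := ⟨_, rfl⟩
    rwa [c.hU.range_fromSpec] at this
  have hz' : z ∈ i ⁻¹ᵁ c'.Wl := by
    have hρ : ρ = Spec.map (CommRingCat.ofHom ψ') ≫ c'.hU.fromSpec := he.symm
    have : z ∈ Set.range c'.hU.fromSpec := by
      show ρ _ ∈ _
      rw [hρ]
      exact ⟨_, rfl⟩
    rwa [c'.hU.range_fromSpec] at this
  obtain ⟨Zl, hZl, hzZ, hle⟩ := Opens.isBasis_iff_nbhd.mp Xl.isBasis_affineOpens
    (show i z ∈ c.Wl ⊓ c'.Wl from ⟨hz, hz'⟩)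
  have h1 : Zl ≤ c.Wl := hle.trans inf_le_left
  have h2 : Zl ≤ c'.Wl := hle.trans inf_le_right
  have hZ : IsAffineOpen (i ⁻¹ᵁ Zl) := hZl.preimage i
  obtain ⟨ψZ, hψZ⟩ := exists_factor ρ hZ hzZ
  have r1 := factor_res c.hU hZ (i.preimage_mono h1) ψ ψZ hψZ.symm
  have r2 := factor_res c'.hU hZ (i.preimage_mono h2) ψ' ψZ (hψZ.symm.trans he.symm)
  letI := (Frob15.strMap f (i ⁻¹ᵁ Zl)).toAlgebra
  obtain ⟨Bc, hBD, hBM⟩ := exists_change _ (isJac_res hsq hF c hZl h1 hZ) (isJac_res hsq hF c' hZl h2 hZ)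
  obtain ⟨L, hLs, hLD⟩ := exists_functional (k := k) ψZ (fun y => dRat y) (fun x y => map_add dRat x y)
    (fun x y => by rw [Derivation.leibniz, smul_eq_mul, smul_eq_mul]) (fun a => by
      obtain ⟨b, hb⟩ := hψ a
      have e : ψZ (algebraMap k Γ(X, i ⁻¹ᵁ Zl) a) = RatFunc.C b := by
        rw [← hb, ← r1]
        exact congrArg ψZ (DFunLike.congr_fun (strMap_res f (i.preimage_mono h1)).symm a)
      show dRat _ = 0
      rw [e, ← RatFunc.algebraMap_eq_C, Derivation.map_algebraMap])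
  refine ⟨Bc.map ψZ, funext fun j => ?_, ?_⟩
  · have h := congrArg L (hBD j)
    simp only [map_sum, hLs, hLD, r1] at h
    simp only [r2] at h
    exact h
  · have hM1 : (c.M.map (X.presheaf.map (homOfLE (i.preimage_mono h1)).op)).map ψZ = c.M.map ψ := by
      ext a b; exact r1 _
    have hM2 : (c'.M.map (X.presheaf.map (homOfLE (i.preimage_mono h2)).op)).map ψZ = c'.M.map ψ' := by
      ext a b; exact r2 _
    have h := congrArg (fun N => N.map ψZ) hBM
    simp only [Matrix.map_mul, hM1, hM2] at h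
    have hfrob : (Bc.map (· ^ p)).map ψZ = (Bc.map ψZ).map (frobenius (RatFunc k) p) := by
      ext a b; exact map_pow ψZ _ _
    rw [hfrob] at h
    have i1 : (c.M⁻¹).map ψ * c.M.map ψ = 1 := by
      rw [← Matrix.map_mul, Matrix.nonsing_inv_mul _ hc, Matrix.map_one _ (map_zero ψ) (map_one ψ)]
    have i2 : c'.M.map ψ' * (c'.M⁻¹).map ψ' = 1 := by
      rw [← Matrix.map_mul, Matrix.mul_nonsing_inv _ hc', Matrix.map_one _ (map_zero ψ') (map_one ψ')]
    calc (c.M⁻¹).map ψ * (Bc.map ψZ).map (frobenius (RatFunc k) p)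
        = (c.M⁻¹).map ψ * ((Bc.map ψZ).map (frobenius (RatFunc k) p) * (c'.M.map ψ' * (c'.M⁻¹).map ψ')) := by
          rw [i2, Matrix.mul_one]
      _ = ((c.M⁻¹).map ψ * (c.M.map ψ * Bc.map ψZ)) * (c'.M⁻¹).map ψ' := by
          rw [h]; simp only [Matrix.mul_assoc]
      _ = Bc.map ψZ * (c'.M⁻¹).map ψ' := by
          rw [← Matrix.mul_assoc, i1, Matrix.one_mul]

include hsq hF in
/-- All functions of a chart have derivative zero along a rational curve. -/
theorem dRat_comp_eq_zero [CharP (RatFunc k) p] [UniversallyClosed f] [SmoothOfRelativeDimension d f]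
    (hunit : ∀ c : Chart f hsq hF d, IsUnit c.M.det) (c₀ : Chart f hsq hF d)
    (ψ : Γ(X, i ⁻¹ᵁ c₀.Wl) →+* RatFunc k) (hψ : ∀ a, ∃ b, ψ (Frob15.strMap f (i ⁻¹ᵁ c₀.Wl) a) = RatFunc.C b)
    (a : Γ(X, i ⁻¹ᵁ c₀.Wl)) : dRat (ψ a) = 0 := by
  classical
  have hloc : ∀ R : ValuationSubring (RatFunc k), (∀ b, RatFunc.C b ∈ R) →
      ∃ (B N : Matrix (Fin d) (Fin d) (RatFunc k)) (y : Fin d → RatFunc k), (∀ j l, N j l ∈ R) ∧ (∀ j, y j ∈ R) ∧
        (fun j => dRat (ψ (c₀.t j))) = B.mulVec (fun j => dRat (y j)) ∧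
        (c₀.M⁻¹).map ψ * B.map (frobenius (RatFunc k) p) = B * N := by
    intro R hR
    obtain ⟨x, hx⟩ := exists_centre (f := f) R c₀.hU ψ fun b => by
      obtain ⟨b', hb'⟩ := hψ b
      rw [hb']; exact hR b'
    obtain ⟨c, hc⟩ := exists_chart f hsq hF (d := d) x
    obtain ⟨ψ', hψ'R, he⟩ := hx _ c.hU hc
    obtain ⟨B, hB1, hB2⟩ := exists_transition hsq hF c₀ c (hunit c₀) (hunit c) ψ ψ' hψ he
    exact ⟨B, _, fun j => ψ' (c.t j), fun j l => hψ'R _, fun j => hψ'R _, hB1, hB2⟩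
  have hzero : (fun j => dRat (ψ (c₀.t j))) = 0 := by
    haveI : ExpChar (RatFunc k) p := ExpChar.prime hp.out
    refine eq_zero_of_local p ((c₀.M⁻¹).map ψ) ?_ _ (fun b => ?_) ?_
    · rw [show ((c₀.M⁻¹).map ψ).det = ψ (c₀.M⁻¹).det from (RingHom.map_det ψ _).symm]
      exact (Matrix.isUnit_nonsing_inv_det _ (hunit c₀)).map ψ
    · obtain ⟨B, N, y, hN, hy, h1, h2⟩ := hloc (placeAt b) fun c => by
        rw [mem_placeAt, ← RatFunc.algebraMap_C]
        exact intAt_polynomial b _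
      exact ⟨B, N, _, hN, fun j => intAt_dRat (hy j), h1, h2⟩
    · obtain ⟨B, N, y, hN, hy, h1, h2⟩ := hloc placeInf fun c => by
        rw [mem_placeInf]
        intro _
        rw [RatFunc.intDegree_C]
      exact ⟨B, N, _, hN, fun j => degLE_dRat (hy j), h1, h2⟩
  letI := (Frob15.strMap f (i ⁻¹ᵁ c₀.Wl)).toAlgebra
  obtain ⟨L, hLs, hLD⟩ := exists_functional (k := k) ψ (fun y => dRat y) (fun x y => map_add dRat x y)
    (fun x y => by rw [Derivation.leibniz, smul_eq_mul, smul_eq_mul]) (fun b => by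
      obtain ⟨b', hb'⟩ := hψ b
      show dRat (ψ (Frob15.strMap f (i ⁻¹ᵁ c₀.Wl) b)) = 0
      rw [hb', ← RatFunc.algebraMap_eq_C, Derivation.map_algebraMap])
  obtain ⟨bas, hbas⟩ := c₀.ht
  rw [← hLD, ← bas.sum_repr (D k _ a), map_sum]
  refine Finset.sum_eq_zero fun j _ => ?_
  rw [hLs, hbas, hLD, show dRat (ψ (c₀.t j)) = 0 from congrFun hzero j, mul_zero]

include hsq hF in
/-- All values of a chart on a rational curve are arbitrarily high powers of `p`. -/
theorem exists_pow_eq_of_chart [CharP (RatFunc k) p] [UniversallyClosed f] [SmoothOfRelativeDimension d f]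
    (hunit : ∀ c : Chart f hsq hF d, IsUnit c.M.det) (c₀ : Chart f hsq hF d) :
    ∀ (n : ℕ) (ψ : Γ(X, i ⁻¹ᵁ c₀.Wl) →+* RatFunc k),
      (∀ a, ∃ b, ψ (Frob15.strMap f (i ⁻¹ᵁ c₀.Wl) a) = RatFunc.C b) → ∀ a, ∃ y, y ^ (p ^ n) = ψ a := by
  intro n
  induction n with
  | zero => exact fun ψ _ a => ⟨ψ a, by rw [pow_zero, pow_one]⟩
  | succ n ih =>
    intro ψ hψ a
    haveI : ExpChar (RatFunc k) p := ExpChar.prime hp.out
    choose root hroot using fun a => exists_pow_eq p (dRat_comp_eq_zero hsq hF hunit c₀ ψ hψ a)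
    have inj := frobenius_inj (RatFunc k) p
    let ψ₁ : Γ(X, i ⁻¹ᵁ c₀.Wl) →+* RatFunc k :=
      { toFun := root
        map_one' := inj (by simp only [frobenius_def, hroot, map_one, one_pow])
        map_mul' := fun x y => inj (by simp only [frobenius_def, hroot, map_mul, mul_pow])
        map_zero' := inj (by simp only [frobenius_def, hroot, map_zero, zero_pow hp.out.ne_zero])
        map_add' := fun x y => inj (by simp only [map_add]; simp only [frobenius_def, hroot, map_add]) }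
    obtain ⟨y, hy⟩ := ih ψ₁ (fun b => by
      obtain ⟨b', hb'⟩ := hψ b
      refine ⟨(frobeniusEquiv k p).symm b', inj ?_⟩
      show root _ ^ p = RatFunc.C _ ^ p
      rw [hroot, hb', ← map_pow, frobeniusEquiv_symm_pow_p]) a
    refine ⟨y, ?_⟩
    rw [pow_succ, pow_mul, hy]
    exact hroot a

end Geometry

end Groth.Agent.Lift15
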