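import Groth.Prelude.Def_ClSub2
import Groth.Agent.AmpleLib.Power
import Groth.Agent.Coherent.Existence.FullFaithful
import Groth.Agent.MorProj.InvTensor

/-!
# A nonzero map out of an invertible module gives a nonzero section of its inverse
-/

set_option autoImplicit false
set_option backward.isDefEq.respectTransparency false

universe u

open CategoryTheory AlgebraicGeometry TopologicalSpace Opposite
open Groth.Agent.Coherent Groth.Agent.PicLib Groth.Agent.AmpleLib

namespace Groth.Agent.Lift15

variable {X : Scheme.{u}}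

/-- The bilinear map behind the right unitor. -/
noncomputable def rightUnitBilin (M : X.Modules) : Bilin M (Coh.structureModule X) M where
  app U b r := (show Γ(X, U) from r) • b
  add_left U b b' r := smul_add (show Γ(X, U) from r) b b'
  add_right U b r r' := add_smul (show Γ(X, U) from r) (show Γ(X, U) from r') b
  smul_left U a b r := smul_comm (show Γ(X, U) from r) a b
  smul_right U a b r := mul_smul a (show Γ(X, U) from r) b
  res U V h b r := resM_smul M h (show Γ(X, U) from r) b

/-- If a hom `W^{⊗ n} ⟶ O` has a nonzero value on a local generator then an inverse has a nonzero section. -/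
theorem nontrivial_hh_zero [IsIntegral X] {W N : X.Modules} {n : ℕ}
    (s : CohB1.tensorPow W n ⟶ Coh.structureModule X)
    (ε : CohB1.tensorMod N (CohB1.tensorPow W n) ≅ Coh.structureModule X) (hN : PicF.IsInvertible N)
    (hs : ∀ x : X, ∃ (U : X.Opens) (e : Γ(W, U)), x ∈ U ∧ IsGen W U e ∧
      ∃ h : Γ(X, U), h ≠ 0 ∧ s.app U (powSec e n) = h • oneSec U) :
    Nontrivial (Coh.HH X N 0) := by
  let ψ : CohB1.tensorMod N (CohB1.tensorPow W n) ⟶ N := tensorMap (𝟙 N) s ≫ (rightUnitBilin N).desc
  let u : Γ(CohB1.tensorMod N (CohB1.tensorPow W n), ⊤) := ε.inv.app ⊤ (oneSec ⊤)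
  let σ : Γ(N, ⊤) := ψ.app ⊤ u
  suffices hne : σ ≠ 0 by
    refine ⟨(Coherent.Existence.hSec N).symm σ, 0, fun h => hne ?_⟩
    have h2 := congrArg (Coherent.Existence.hSec N) h
    rwa [AddEquiv.apply_symm_apply, map_zero] at h2
  intro hσ
  let x := genericPoint X
  obtain ⟨U, e, hxU, he, h, hh, hsU⟩ := hs x
  obtain ⟨V, hxV, gN, hgN⟩ := exists_isGen hN x
  let T := U ⊓ V
  have he' := he.restrict (inf_le_left : T ≤ U)
  have hg' := hgN.restrict (inf_le_right : T ≤ V)
  have hgen : IsGen (CohB1.tensorMod N (CohB1.tensorPow W n)) T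
      (tmul (resM N inf_le_right gN) (resM (CohB1.tensorPow W n) inf_le_left (powSec e n))) := by
    refine isGen_tmul hg' ?_
    have := isGen_powSec he' n
    rwa [← resM_powSec] at this
  obtain ⟨r, hr⟩ := (hgen T le_rfl).2 (resM _ le_top u)
  simp only [resM_self] at hr
  have hone : IsUnit r := by
    have h1 := congrArg (ε.hom.app T) hr
    rw [Scheme.Modules.Hom.app_smul, app_resM ε.hom] at h1
    have h2 : ε.hom.app ⊤ u = oneSec ⊤ := ConcreteCategory.congr_hom (congrArg (fun a => a.app ⊤) ε.inv_hom_id) _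
    rw [h2, resM_oneSec] at h1
    exact IsUnit.of_mul_eq_one _ h1
  have hval : resM N le_top σ = r • (X.presheaf.map (homOfLE (inf_le_left : T ≤ U)).op h • resM N (inf_le_right : T ≤ V) gN) := by
    show resM N _ (ψ.app ⊤ u) = _
    rw [← app_resM ψ, ← hr, Scheme.Modules.Hom.app_smul]
    congr 1
    show (rightUnitBilin N).desc.app T ((tensorMap (𝟙 N) s).app T _) = _
    rw [tensorMap_tmul, Bilin.desc_tmul]
    show (show Γ(X, T) from s.app T _) • resM N _ gN = _
    rw [app_resM s, hsU, resM_smul, resM_oneSec]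
    congr 1
    exact mul_one _
  rw [hσ, map_zero] at hval
  have hz : X.presheaf.map (homOfLE (inf_le_left : T ≤ U)).op h = 0 := by
    refine (hg' T le_rfl).1 ?_
    show _ • resM N _ _ = (0 : Γ(X, T)) • resM N _ _
    rw [resM_self, zero_smul, ← hone.smul_left_cancel, smul_zero]
    exact hval.symm
  haveI : Nonempty T := ⟨⟨x, hxU, hxV⟩⟩
  exact hh (map_injective_of_isIntegral X (homOfLE (inf_le_left : T ≤ U)) (hz.trans (map_zero _).symm))

end Groth.Agent.Lift15
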